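import Cfsg.Agent.ThompsonCount.Normal
import Cfsg.Agent.SectionFunctors.Thompson
import Cfsg.Agent.Transfer.Frobenius

/-!
# The normal `p`-complement criterion with the automizer of `J(S)`, `p ≥ 5`
-/

set_option autoImplicit false
set_option linter.style.haveILetI false

open Cfsg
open scoped commutatorElement

namespace CfsgLib.ThompsonCount

universe u

variable {G : Type u} [Group G] [Finite G] {p : ℕ} [hp : Fact p.Prime]

theorem isCharPFunctor_thompsonA : IsCharPFunctor.{u} p (fun Q _ => thompsonSubgroupA Q) := by
  have heq : ∀ (Q : Type u) [Group Q], thompsonSubgroupA Q = ThompsonComplement.jSub 0 (⊤ : Subgroup Q) := by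
    intro Q _
    rw [thompsonSubgroupA, ThompsonComplement.jSub]
    congr 1
    ext A
    simp only [maxAbelianSubgroups, ThompsonComplement.maxAb, Set.mem_setOf_eq, le_top, true_and, true_implies]
    constructor
    · rintro ⟨h1, h2⟩
      exact ⟨⟨fun x hx y hy => setLike_mul_comm hx hy, fun a _ => pow_zero a⟩,
        fun B hB => h2 B hB.isMulCommutative⟩
    · rintro ⟨h1, h2⟩
      refine ⟨h1.isMulCommutative, fun B hB => h2 B ⟨fun x hx y hy => setLike_mul_comm hx hy, fun a _ => pow_zero a⟩⟩
  refine ⟨fun Q _ _ hQ hne => ?_, fun Q R _ _ _ hQ φ => ?_⟩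
  · show thompsonSubgroupA Q ≠ ⊥
    rw [heq]
    exact ThompsonComplement.jSub_ne_bot (dvd_zero p) (hQ.to_subgroup ⊤) (fun h => by
      haveI := hne
      exact bot_ne_top h.symm)
  · show (thompsonSubgroupA Q).map φ.toMonoidHom = thompsonSubgroupA R
    rw [heq, heq, ← ThompsonComplement.jSub_map _ φ.injective, Subgroup.map_top_of_surjective _ φ.surjective]

theorem centralizer_inf_le_jSub {S : Subgroup G} :
    S ⊓ Subgroup.centralizer (ThompsonComplement.jSub 0 S : Set G) ≤ ThompsonComplement.jSub 0 S := by
  rintro x ⟨hxS, hxC⟩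
  obtain ⟨A, hA⟩ := ThompsonComplement.exists_maxAb (m := 0) S
  have hc : ∀ a ∈ A, ∀ b ∈ Subgroup.zpowers x, a * b = b * a := by
    intro a ha b hb
    obtain ⟨k, rfl⟩ := hb
    exact ((show Commute a x from Subgroup.mem_centralizer_iff.mp hxC a (le_sSup hA ha)).zpow_right k)
  have hab : ThompsonComplement.AbExp 0 (A ⊔ Subgroup.zpowers x) := hA.2.1.sup
    ⟨fun a ha b hb => setLike_mul_comm ha hb, fun a _ => pow_zero a⟩ hc
  have h1 := hA.2.2 _ (sup_le hA.1 (Subgroup.zpowers_le.mpr hxS)) hab
  have h2 : A = A ⊔ Subgroup.zpowers x := Subgroup.eq_of_le_of_card_ge le_sup_left h1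
  exact (le_sSup hA) (h2 ▸ Subgroup.mem_sup_right (Subgroup.mem_zpowers x))

theorem criterion (hp5 : 5 ≤ p) (S : Sylow p G) :
    HasNormalPComplement p G ↔
      ∀ g ∈ Subgroup.normalizer (thompsonSubgroupAOf (S : Subgroup G) : Set G), (orderOf g).Coprime p →
        g ∈ Subgroup.centralizer (thompsonSubgroupAOf (S : Subgroup G) : Set G) := by
  constructor
  · intro h g hg hgc
    refine Transfer.mem_centralizer_of_normalizer_hasNormalPComplement ?_
      (Transfer.hasNormalPComplement_subgroup h _) hg hgc
    exact S.2.to_le (Subgroup.map_subtype_le _)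
  · intro h
    rw [ThompsonComplement.thompsonSubgroupAOf_eq_jSub] at h
    set J := ThompsonComplement.jSub 0 (S : Subgroup G) with hJ
    refine SectionFunctors.hasNormalPComplement_of_normalInMaximalSections (fun Q _ => thompsonSubgroupA Q)
      isCharPFunctor_thompsonA _ G rfl ?_ S ?_
    · intro K R _ hc hq T hT
      set X := ↥K ⧸ R.subgroupOf K
      show (thompsonSubgroupAOf (T : Subgroup X)).Normal
      rw [ThompsonComplement.thompsonSubgroupAOf_eq_jSub]
      have hle := jSub_le_pCore hp5 hc hq T hT
      have hRT : pCore p X ≤ (T : Subgroup X) := by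
        haveI : (pCore p X).Normal := Constrained.instNormalPCore p
        exact Constrained.isPGroup_pCore.le_sylow_of_normal T
      rw [← ThompsonComplement.jSub_eq_of_le hRT hle]
      refine Subgroup.normalizer_eq_top_iff.mp (eq_top_iff.mpr ?_)
      refine le_trans ?_ (ThompsonComplement.normalizer_le_normalizer_jSub _)
      haveI : (pCore p X).Normal := Constrained.instNormalPCore p
      rw [Subgroup.normalizer_eq_top]
    · show HasNormalPComplement p ↥(Subgroup.normalizer (thompsonSubgroupAOf (S : Subgroup G) : Set G))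
      rw [ThompsonComplement.thompsonSubgroupAOf_eq_jSub, ← hJ]
      set N := Subgroup.normalizer (J : Set G) with hN
      set C := Subgroup.centralizer (J : Set G) with hC
      have hCN : C ≤ N := Subgroup.centralizer_le_normalizer _
      have hSN : (S : Subgroup G) ≤ N :=
        Subgroup.le_normalizer.trans (ThompsonComplement.normalizer_le_normalizer_jSub _)
      haveI : (C.subgroupOf N).Normal :=
        Subgroup.normal_subgroupOf_of_le_normalizer (Coprime.le_normalizer_centralizer le_rfl)
      -- Sylow subgroups of the centralizer are central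
      have hcen : ∀ P : Sylow p ↥C, Subgroup.normalizer (P : Set ↥C) ≤ Subgroup.centralizer (P : Set ↥C) := by
        intro P
        have hPC : ((P : Subgroup ↥C).map C.subtype) ≤ N := (Subgroup.map_subtype_le _).trans hCN
        have hPp : IsPGroup p ↥((((P : Subgroup ↥C).map C.subtype)).subgroupOf N) :=
          (P.2.map _).comap_of_injective N.subtype N.subtype_injective
        obtain ⟨P', hP'⟩ := hPp.exists_le_sylow
        obtain ⟨n, hn⟩ := MulAction.exists_smul_eq ↥N (S.subtype hSN) P'
        have hPJ : ∀ x : ↥C, x ∈ (P : Subgroup ↥C) → (x : G) ∈ J := by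
          intro x hx
          have hxN : (⟨x, hCN x.2⟩ : ↥N) ∈ P' := hP' ⟨x, hx, rfl⟩
          rw [← hn] at hxN
          have hxN' : (⟨x, hCN x.2⟩ : ↥N) ∈ ((S : Subgroup G).subgroupOf N).map (MulAut.conj n).toMonoidHom :=
            hxN
          obtain ⟨s, hs, hsx⟩ := hxN'
          have hs' : (n : G) * s * (n : G)⁻¹ = x := congrArg Subtype.val hsx
          have hsC : (s : G) ∈ C := by
            have h1 : (n : G) ∈ Subgroup.normalizer (C : Set G) := Coprime.le_normalizer_centralizer le_rfl n.2
            exact (Subgroup.mem_normalizer_iff.mp h1 s).mpr (hs' ▸ x.2)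
          have hsJ : (s : G) ∈ J := centralizer_inf_le_jSub ⟨hs, hsC⟩
          exact hs' ▸ (Subgroup.mem_normalizer_iff.mp n.2 s).mp hsJ
        intro c _
        rw [Subgroup.mem_centralizer_iff]
        intro x hx
        exact Subtype.ext (Subgroup.mem_centralizer_iff.mp c.2 x (hPJ x hx))
      obtain ⟨P⟩ : Nonempty (Sylow p ↥C) := inferInstance
      have hnC : HasNormalPComplement p ↥(C.subgroupOf N) :=
        (Transfer.hasNormalPComplement_congr (Subgroup.subgroupOfEquivOfLe hCN)).mpr
          (Transfer.hasNormalPComplement_of_normalizer_le_centralizer P (hcen P))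
      haveI : (pResidual p ↥(C.subgroupOf N)).Characteristic := CharP.pResidual_characteristic
      set K := (pResidual p ↥(C.subgroupOf N)).map (C.subgroupOf N).subtype with hK
      haveI : K.Normal := ConjAct.normal_of_characteristic_of_normal
      have hKc : (Nat.card K).Coprime p := by
        rw [hK, Subgroup.card_map_of_injective (Subgroup.subtype_injective _)]
        exact Transfer.hasNormalPComplement_iff_coprime_pResidual.mp hnC
      refine Transfer.hasNormalPComplement_of_normal K hKc fun y => ?_
      obtain ⟨y, rfl⟩ := QuotientGroup.mk_surjective y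
      obtain ⟨a, b, ha, hb, hab, ⟨k, hk⟩, hbc⟩ := Transfer.exists_pPart_decomposition (p := p) y
      have hbC : b ∈ C.subgroupOf N :=
        h b b.2 (by rwa [Subgroup.orderOf_coe])
      have hbK : b ∈ K := by
        refine ⟨⟨b, hbC⟩, (Transfer.mem_pResidual_iff hnC _).mpr ?_, rfl⟩
        rwa [← Subgroup.orderOf_coe] 
      refine ⟨k, ?_⟩
      rw [hab, QuotientGroup.mk_mul, (QuotientGroup.eq_one_iff b).mpr hbK, mul_one, ← QuotientGroup.mk_pow,
        orderOf_dvd_iff_pow_eq_one.mp hk]
      rfl

end CfsgLib.ThompsonCount
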