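import Cfsg.Agent.ThompsonCount.Core
import Cfsg.Agent.ThompsonComplement.Main
import Cfsg.Agent.Constrained.MaximalSylow
import Cfsg.Agent.Coprime.Generation
import Mathlib.GroupTheory.SchurZassenhaus

/-!
# `J(T)` is normal when the Sylow `p`-subgroup is maximal in a constrained group, `p ≥ 5`
-/

set_option autoImplicit false
set_option linter.style.haveILetI false

open Cfsg
open scoped commutatorElement

namespace CfsgLib.ThompsonCount

variable {X : Type*} [Group X] [Finite X] {p : ℕ} [hp : Fact p.Prime]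

/-- A cyclic quotient of an abelian group generated by `g`. -/
theorem exists_index_of_generator {A R₁ : Subgroup X} (hA : IsMulCommutative A) {g : X} (hg : g ∈ A)
    (hgen : ∀ a ∈ A, ∃ l : ℤ, a * g ^ l ∈ R₁) (hAp : IsPGroup p A) :
    ∃ m : ℕ, g ^ p ^ m ∈ R₁ ∧ Nat.card A = p ^ m * Nat.card ↥(A ⊓ R₁) ∧
      (∀ i, 0 < i → i < p ^ m → g ^ i ∉ R₁) ∧ (∀ a ∈ A, ∃ l : ℕ, ∃ b ∈ R₁, a = b * g ^ l) := by
  letI : CommGroup A := { (inferInstance : Group A) with mul_comm := hA.1.comm }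
  set K := R₁.subgroupOf A
  set x : ↥A ⧸ K := QuotientGroup.mk ⟨g, hg⟩
  have hx : ∀ y : ↥A ⧸ K, y ∈ Subgroup.zpowers x := by
    intro y
    obtain ⟨⟨a, ha⟩, rfl⟩ := QuotientGroup.mk_surjective y
    obtain ⟨l, hl⟩ := hgen a ha
    refine Subgroup.mem_zpowers_iff.mpr ⟨-l, ?_⟩
    rw [← QuotientGroup.mk_zpow, QuotientGroup.eq, Subgroup.mem_subgroupOf]
    rw [setLike_mul_comm ha (zpow_mem hg l)] at hl
    simpa using hl
  obtain ⟨m, hm⟩ := IsPGroup.iff_card.mp (hAp.to_quotient K)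
  have hord : orderOf x = p ^ m := by rw [orderOf_eq_card_of_forall_mem_zpowers hx, hm]
  have hmem : ∀ i : ℕ, g ^ i ∈ R₁ ↔ x ^ i = 1 := fun i => by
    rw [← QuotientGroup.mk_pow, QuotientGroup.eq_one_iff, Subgroup.mem_subgroupOf]; rfl
  refine ⟨m, (hmem _).mpr (hord ▸ pow_orderOf_eq_one x), ?_, fun i h0 h1 h => ?_, fun a ha => ?_⟩
  · have h1 := K.card_mul_index
    rw [Subgroup.index, hm] at h1
    have h2 : Nat.card K = Nat.card ↥(A ⊓ R₁) :=
      Nat.card_congr
        { toFun := fun z => ⟨(z : A), ⟨(z : A).2, z.2⟩⟩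
          invFun := fun z => ⟨⟨z, z.2.1⟩, z.2.2⟩
          left_inv := fun z => rfl
          right_inv := fun z => rfl }
    rw [← h1, h2, mul_comm]
  · exact absurd (Nat.le_of_dvd h0 (orderOf_dvd_of_pow_eq_one ((hmem i).mp h))) (by omega)
  · obtain ⟨l, hl⟩ := Submonoid.mem_powers_iff _ _ |>.mp
      (mem_powers_iff_mem_zpowers.mpr (hx (QuotientGroup.mk ⟨a, ha⟩)))
    refine ⟨l, a * (g ^ l)⁻¹, ?_, by group⟩
    rw [← QuotientGroup.mk_pow, QuotientGroup.eq, Subgroup.mem_subgroupOf] at hl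
    rw [setLike_mul_comm ha (inv_mem (pow_mem hg l))]
    simpa using hl

theorem isMulCommutative_map {Y : Type*} [Group Y] (f : X →* Y) {A : Subgroup X} (hA : IsMulCommutative A) :
    IsMulCommutative ↥(A.map f) :=
  ⟨⟨by rintro ⟨_, a, ha, rfl⟩ ⟨_, b, hb, rfl⟩
       exact Subtype.ext (by simp only [Subgroup.coe_mul]; rw [← map_mul, ← map_mul, setLike_mul_comm ha hb])⟩⟩

theorem jSub_le_pCore (hp5 : 5 ≤ p) (hc : Subgroup.centralizer (pCore p X : Set X) ≤ pCore p X)
    (hq : HasNormalPComplement p (X ⧸ pCore p X)) (T : Sylow p X) (hT : IsCoatom (T : Subgroup X)) :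
    ThompsonComplement.jSub 0 (T : Subgroup X) ≤ pCore p X := by
  classical
  haveI hRn : (pCore p X).Normal := Constrained.instNormalPCore p
  set R := pCore p X with hR
  have hRp : IsPGroup p R := Constrained.isPGroup_pCore
  have hRT : R ≤ (T : Subgroup X) := hRp.le_sylow_of_normal T
  refine sSup_le fun A hA => ?_
  obtain ⟨hAT, hAab, hAmax⟩ := hA
  by_contra hAR
  have hAc : IsMulCommutative A := hAab.isMulCommutative
  have hAp : IsPGroup p A := T.2.to_le hAT
  set π := QuotientGroup.mk' R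
  have hπs : Function.Surjective π := QuotientGroup.mk'_surjective R
  let Tb : Sylow p (X ⧸ R) := T.mapSurjective (f := π) hπs
  have hTb : (Tb : Subgroup (X ⧸ R)) = (T : Subgroup X).map π := rfl
  have hQab : IsMulCommutative ↥(pResidual p (X ⧸ R)) := by
    refine Constrained.exists_abelian_complement_of_coatom hq Tb fun L hL => ?_
    have hLT : (T : Subgroup X) ≤ L.comap π := Subgroup.map_le_iff_le_comap.mp hL
    rcases hT.le_iff.mp hLT with h | h
    · exact Or.inr (by rw [← Subgroup.map_comap_eq_self_of_surjective hπs L, h,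
        Subgroup.map_top_of_surjective _ hπs])
    · exact Or.inl (by rw [← Subgroup.map_comap_eq_self_of_surjective hπs L, h]; rfl)
  haveI : (pResidual p (X ⧸ R)).Normal := CharP.pResidual_normal
  set Qb := pResidual p (X ⧸ R) with hQb
  have hQc : (Nat.card Qb).Coprime p := Transfer.hasNormalPComplement_iff_coprime_pResidual.mp hq
  set Ab := A.map π with hAb
  have hAbc : IsMulCommutative Ab := isMulCommutative_map π hAc
  have hAbp : IsPGroup p Ab := hAp.map π
  have hAbne : Ab ≠ ⊥ := fun h => hAR (by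
    intro a ha
    have : π a = 1 := Subgroup.mem_bot.mp (h ▸ ⟨a, ha, rfl⟩)
    exact (QuotientGroup.eq_one_iff a).mp this)
  have hcop : ∀ M : Subgroup (X ⧸ R), M ≤ Qb → (Nat.card Ab).Coprime (Nat.card M) := by
    intro M hM
    obtain ⟨e, he⟩ := IsPGroup.iff_card.mp hAbp
    rw [he]
    exact ((hQc.coprime_dvd_left (Subgroup.card_dvd_of_le hM)).symm).pow_left e
  have hAbN : Ab ≤ Subgroup.normalizer (Qb : Set (X ⧸ R)) := Subgroup.le_normalizer_of_normal
  -- `Ab` is not centralized by the complement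
  have hnc : ⁅Qb, Ab⁆ ≠ ⊥ := by
    intro h
    rw [Subgroup.commutator_eq_bot_iff_le_centralizer] at h
    have htop : (Tb : Subgroup (X ⧸ R)) ⊔ Qb = ⊤ := by
      rw [← Subgroup.index_eq_one]
      obtain ⟨e, he⟩ := IsPGroup.iff_card.mp (CharP.isPGroup_quotient_pResidual Qb le_rfl)
      have h1 : ((Tb : Subgroup (X ⧸ R)) ⊔ Qb).index ∣ p ^ e :=
        (Subgroup.index_dvd_of_le le_sup_right).trans (dvd_of_eq (by rw [← he]; rfl))
      have h2 : ¬ p ∣ ((Tb : Subgroup (X ⧸ R)) ⊔ Qb).index := fun h' =>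
        Tb.not_dvd_index (h'.trans (Subgroup.index_dvd_of_le le_sup_left))
      obtain ⟨i, hi, hi'⟩ := (Nat.dvd_prime_pow hp.1).mp h1
      rcases i with _ | i
      · simpa using hi'
      · exact absurd (hi' ▸ dvd_pow_self p (Nat.succ_ne_zero i)) h2
    have hle : Subgroup.normalClosure (Ab : Set (X ⧸ R)) ≤ (Tb : Subgroup (X ⧸ R)) := by
      refine (Subgroup.closure_le _).mpr ?_
      intro y hy
      obtain ⟨a, ha, hc'⟩ := Group.mem_conjugatesOfSet_iff.mp hy
      obtain ⟨x, rfl⟩ := isConj_iff.mp hc'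
      have hx : x ∈ (Tb : Subgroup (X ⧸ R)) ⊔ Qb := htop ▸ Subgroup.mem_top x
      obtain ⟨t, ht, q, hq', rfl⟩ := Subgroup.mem_sup_of_normal_right.mp hx
      have haq : q * a * q⁻¹ = a := by
        rw [← Subgroup.mem_centralizer_iff.mp (h hq') a ha, mul_inv_cancel_right]
      have : t * q * a * (t * q)⁻¹ = t * (q * a * q⁻¹) * t⁻¹ := by group
      rw [this, haq]
      obtain ⟨a₀, ha₀, rfl⟩ := ha
      exact mul_mem (mul_mem ht ⟨a₀, hAT ha₀, rfl⟩) (inv_mem ht)
    have h1 : Subgroup.normalClosure (Ab : Set (X ⧸ R)) ≤ pCore p (X ⧸ R) :=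
      Constrained.le_pCore Subgroup.normalClosure_normal (Tb.2.to_le hle)
    exact hAbne (le_bot_iff.mp ((Subgroup.le_normalClosure.trans h1).trans
      (Constrained.pCore_quotient_pCore (G := X) (p := p)).le))
  -- a minimal subgroup moved by `Ab` with a cyclic quotient
  obtain ⟨B, hBA, ⟨g₀, hg₀, hsup⟩, hB⟩ : ∃ B : Subgroup (X ⧸ R), B ≤ Ab ∧
      (∃ a ∈ Ab, B ⊔ Subgroup.zpowers a = Ab) ∧
      ¬ ⁅Qb ⊓ Subgroup.centralizer (B : Set (X ⧸ R)), Ab⁆ ≤ ⊥ := by
    by_contra h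
    push Not at h
    exact hnc (le_bot_iff.mp (Coprime.commutator_le_of_cocyclic hAbc hAbN (hcop Qb le_rfl).symm.symm h))
  obtain ⟨M, ⟨hMG, hMn, hMne⟩, hMmin⟩ := exists_minimal_of_wellFoundedLT
    (fun M : Subgroup (X ⧸ R) => M ≤ Qb ⊓ Subgroup.centralizer (B : Set (X ⧸ R)) ∧
      Ab ≤ Subgroup.normalizer (M : Set (X ⧸ R)) ∧ ⁅M, Ab⁆ ≠ ⊥)
    ⟨_, le_rfl, Coprime.le_normalizer_inf' hAbN (Coprime.le_normalizer_centralizer (fun a ha => by
      exact Subgroup.centralizer_le_normalizer _ (Subgroup.mem_centralizer_iff.mpr fun b hb =>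
        setLike_mul_comm (hBA hb) ha))), fun h => hB h.le⟩
  have hMQ : M ≤ Qb := hMG.trans inf_le_left
  have hMc : IsMulCommutative M := ⟨⟨fun a b => Subtype.ext (setLike_mul_comm (hMQ a.2) (hMQ b.2))⟩⟩
  have hMeq : ⁅M, Ab⁆ = M := by
    refine le_antisymm (Coprime.commutator_le_of_le_normalizer hMn) ?_
    refine hMmin ⟨(Coprime.commutator_le_of_le_normalizer hMn).trans hMG,
      Subgroup.normalizer_commutator_ge_right M Ab, ?_⟩ (Coprime.commutator_le_of_le_normalizer hMn)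
    rw [Coprime.commutator_commutator_eq hMn (hcop M hMQ) (Or.inl (Coprime.isSolvable_of_isMulCommutative hAbc))]
    exact hMne
  have hfix : M ⊓ Subgroup.centralizer (Ab : Set (X ⧸ R)) = ⊥ := by
    have := Coprime.commutator_inf_centralizer_eq_bot hMc hMn (hcop M hMQ)
    rwa [hMeq] at this
  set A₁ := Ab ⊓ Subgroup.centralizer (M : Set (X ⧸ R)) with hA₁
  have hfpf : ∀ a ∈ Ab, a ∉ A₁ → ∀ y ∈ M, a * y = y * a → y = 1 := by
    intro a ha ha1 y hy hay
    by_cases hall : M ≤ Subgroup.centralizer ({a} : Set (X ⧸ R))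
    · exact absurd ⟨ha, Subgroup.mem_centralizer_iff.mpr fun z hz =>
        Subgroup.mem_centralizer_singleton_iff.mp (hall hz)⟩ ha1
    · set M' := M ⊓ Subgroup.centralizer ({a} : Set (X ⧸ R))
      have hM'n : Ab ≤ Subgroup.normalizer (M' : Set (X ⧸ R)) :=
        Coprime.le_normalizer_inf' hMn fun b hb => by
          refine Subgroup.le_normalizer (H := Subgroup.centralizer ({a} : Set (X ⧸ R))) ?_
          exact Subgroup.mem_centralizer_singleton_iff.mpr (setLike_mul_comm hb ha)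
      have hM'bot : ⁅M', Ab⁆ = ⊥ := by
        by_contra h
        exact hall ((hMmin ⟨inf_le_left.trans hMG, hM'n, h⟩ inf_le_left).trans inf_le_right)
      have : y ∈ M ⊓ Subgroup.centralizer (Ab : Set (X ⧸ R)) :=
        ⟨hy, (Subgroup.commutator_eq_bot_iff_le_centralizer.mp hM'bot)
          ⟨hy, Subgroup.mem_centralizer_singleton_iff.mpr hay.symm⟩⟩
      rwa [hfix, Subgroup.mem_bot] at this
  -- the enlarged core and the cyclic quotient
  set R₁ := A₁.comap π with hR₁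
  have hRR₁ : R ≤ R₁ := fun r hr => by
    show π r ∈ A₁
    rw [show π r = 1 from (QuotientGroup.eq_one_iff r).mpr hr]; exact one_mem _
  have hR₁le : R₁ ≤ R ⊔ A := by
    rw [sup_comm, ← Subgroup.comap_map_eq_self (f := π) (H := A ⊔ R) (by rw [QuotientGroup.ker_mk']; exact le_sup_right)]
    exact Subgroup.comap_mono (inf_le_left.trans (Subgroup.map_mono le_sup_left))
  have hRAT : R ⊔ A ≤ (T : Subgroup X) := sup_le hRT hAT
  obtain ⟨g, hg, rfl⟩ := hg₀
  have hgen : ∀ a ∈ A, ∃ l : ℤ, a * g ^ l ∈ R₁ := by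
    intro a ha
    have hBA₁ : B ≤ A₁ := le_inf hBA (Subgroup.le_centralizer_iff.mp (hMG.trans inf_le_right))
    have hnB : Subgroup.zpowers (π g) ≤ Subgroup.normalizer (B : Set (X ⧸ R)) :=
      Subgroup.zpowers_le.mpr (Subgroup.centralizer_le_normalizer _ (Subgroup.mem_centralizer_iff.mpr
        fun b hb => setLike_mul_comm (hBA hb) ⟨g, hg, rfl⟩))
    have hin : π a ∈ ((B ⊔ Subgroup.zpowers (π g) : Subgroup (X ⧸ R)) : Set (X ⧸ R)) := hsup.ge ⟨a, ha, rfl⟩
    rw [Subgroup.coe_mul_of_right_le_normalizer_left _ _ hnB] at hin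
    obtain ⟨b, hb, _, ⟨l, rfl⟩, hbl⟩ := hin
    refine ⟨-l, ?_⟩
    show π (a * g ^ (-l)) ∈ A₁
    rw [map_mul, map_zpow, ← hbl]
    simpa using hBA₁ hb
  obtain ⟨m, hgn, hcard, hgi, hgenN⟩ := exists_index_of_generator hAc hg hgen hAp
  have hm : 1 ≤ m := by
    by_contra h
    have hm0 : m = 0 := by omega
    rw [hm0, pow_zero, pow_one] at hgn
    refine hMne (Subgroup.commutator_eq_bot_iff_le_centralizer.mpr (Subgroup.le_centralizer_iff.mp ?_))
    rintro _ ⟨a, ha, rfl⟩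
    obtain ⟨l, b, hb, rfl⟩ := hgenN a ha
    rw [map_mul, map_pow]
    exact mul_mem (show π b ∈ A₁ from hb).2 (pow_mem (show π g ∈ A₁ from hgn).2 l)
  -- a coprime lift of `M`
  set P₀ := M.comap π with hP₀
  have hRP₀ : R ≤ P₀ := fun r hr => by
    show π r ∈ M
    rw [show π r = 1 from (QuotientGroup.eq_one_iff r).mpr hr]; exact one_mem _
  have hidx : (R.subgroupOf P₀).index = Nat.card M := by
    have h1 := Subgroup.card_map_of_injective (f := M.subtype) M.subtype_injective (K := ⊤)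
    show R.relIndex P₀ = _
    have : (⊥ : Subgroup (X ⧸ R)).comap π = R := by rw [MonoidHom.comap_bot, QuotientGroup.ker_mk']
    refine (congrArg (fun K : Subgroup X => K.relIndex P₀) this).symm.trans ?_
    show ((⊥ : Subgroup (X ⧸ R)).comap π).relIndex P₀ = _
    rw [hP₀, Subgroup.relIndex_comap, Subgroup.map_comap_eq_self_of_surjective hπs, Subgroup.relIndex_bot_left]
  haveI : (R.subgroupOf P₀).Normal := Subgroup.normal_subgroupOf
  have hMcop : (Nat.card M).Coprime p := hQc.coprime_dvd_left (Subgroup.card_dvd_of_le hMQ)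
  obtain ⟨Q₀, hQ₀⟩ := Subgroup.exists_right_complement'_of_coprime (N := R.subgroupOf P₀) (by
    rw [hidx]
    obtain ⟨e, he⟩ := IsPGroup.iff_card.mp (hRp.comap_of_injective P₀.subtype P₀.subtype_injective)
    rw [Subgroup.subgroupOf] at *
    rw [he]
    exact hMcop.symm.pow_left e)
  set Q := Q₀.map P₀.subtype with hQdef
  have hQM : Q.map π = M := by
    refine le_antisymm (by rintro _ ⟨_, ⟨q, -, rfl⟩, rfl⟩; exact q.2) fun y hy => ?_
    obtain ⟨x, rfl⟩ := hπs y
    have hx : x ∈ P₀ := hy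
    obtain ⟨⟨⟨r, hr⟩, ⟨q, hq'⟩⟩, hrq⟩ := hQ₀.2 ⟨x, hx⟩
    refine ⟨q, ⟨q, hq', rfl⟩, ?_⟩
    have h3 : (r : X) * (q : X) = x := congrArg Subtype.val hrq
    rw [← h3, map_mul, show π (r : X) = 1 from (QuotientGroup.eq_one_iff _).mpr hr, one_mul]
  have hQcard : Nat.card Q = Nat.card M := by
    rw [hQdef, Subgroup.card_map_of_injective P₀.subtype_injective, ← hidx, hQ₀.symm.index_eq_card]
  -- work inside the preimage
  set X₁ := (M ⊔ Ab).comap π with hX₁
  have hR₁X : R₁ ≤ X₁ := Subgroup.comap_mono (inf_le_left.trans le_sup_right)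
  have hQX : Q ≤ X₁ := fun q hq' => by
    show π q ∈ M ⊔ Ab
    exact Subgroup.mem_sup_left (hQM ▸ ⟨q, hq', rfl⟩)
  have hAX : A ≤ X₁ := fun a ha => Subgroup.mem_sup_right (⟨a, ha, rfl⟩ : π a ∈ Ab)
  have hA₁n : M ⊔ Ab ≤ Subgroup.normalizer (A₁ : Set (X ⧸ R)) := sup_le
    (fun y hy => Subgroup.centralizer_le_normalizer _ (Subgroup.mem_centralizer_iff.mpr fun a ha =>
      ((Subgroup.mem_centralizer_iff.mp ha.2) y hy).symm))
    (fun b hb => Subgroup.centralizer_le_normalizer _ (Subgroup.mem_centralizer_iff.mpr fun a ha =>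
      setLike_mul_comm ha.1 hb))
  have hsupeq : R₁ ⊔ Q = (A₁ ⊔ M).comap π := by
    refine le_antisymm (sup_le (Subgroup.comap_mono le_sup_left) fun q hq' =>
      Subgroup.mem_sup_right (hQM ▸ ⟨q, hq', rfl⟩ : π q ∈ M)) ?_
    rw [← hQM, ← Subgroup.map_comap_eq_self_of_surjective hπs A₁, ← hR₁, ← Subgroup.map_sup,
      Subgroup.comap_map_eq, QuotientGroup.ker_mk']
    exact sup_le le_rfl (hRR₁.trans le_sup_left)
  haveI hR₁n : (R₁.subgroupOf X₁).Normal := by
    refine Subgroup.normal_subgroupOf_of_le_normalizer (Subgroup.comap_mono hA₁n |>.trans ?_)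
    exact (Subgroup.comap_normalizer_eq_of_surjective _ hπs).le
  have hnorm : ((R₁ ⊔ Q).subgroupOf X₁).Normal := by
    refine Subgroup.normal_subgroupOf_of_le_normalizer ?_
    rw [hsupeq, hX₁]
    refine (Subgroup.comap_mono ?_).trans (Subgroup.comap_normalizer_eq_of_surjective _ hπs).le
    refine sup_le (le_sup_right.trans Subgroup.le_normalizer) fun b hb => ?_
    have h1 := Subgroup.mem_normalizer_iff_map_conj_eq.mp ((sup_le_iff.mp hA₁n).2 hb)
    have h2 := Subgroup.mem_normalizer_iff_map_conj_eq.mp (hMn hb)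
    rw [Subgroup.mem_normalizer_iff_map_conj_eq]
    exact (Subgroup.map_sup _ _ _).trans (congrArg₂ (· ⊔ ·) h1 h2)
  refine false_of_offender (X := ↥X₁) (R := R₁.subgroupOf X₁) (Q := Q.subgroupOf X₁) (A := A.subgroupOf X₁)
    (p := p) (m := m) hp5 hm (T.2.to_le (hR₁le.trans hRAT) |>.comap_of_injective X₁.subtype X₁.subtype_injective)
    ?_ ?_ ?_ ?_ ?_ (g := ⟨g, hAX hg⟩) hg hgn ?_ ?_ ?_ ?_
  · rw [Nat.card_congr (Subgroup.subgroupOfEquivOfLe hQX).toEquiv, hQcard]; exact hMcop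
  · rw [← Subgroup.subgroupOf_sup hR₁X hQX]; exact hnorm
  · intro h
    have hMbot : M = ⊥ := by
      rw [← hQM, Subgroup.map_eq_bot_iff, QuotientGroup.ker_mk']
      intro q hq'
      refine hc (Subgroup.mem_centralizer_iff.mpr fun r hr => ?_)
      exact congrArg Subtype.val (Subgroup.mem_centralizer_iff.mp (h (show (⟨q, hQX hq'⟩ : X₁) ∈ Q.subgroupOf X₁ from hq'))
        ⟨r, hR₁X (hRR₁ hr)⟩ (hRR₁ hr))
    exact hMne (by rw [hMbot, Subgroup.commutator_bot_left])
  · exact ⟨⟨fun a b => Subtype.ext (Subtype.ext (setLike_mul_comm (show ((a : X₁) : X) ∈ A from a.2) (show ((b : X₁) : X) ∈ A from b.2)))⟩⟩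
  · exact hAp.comap_of_injective X₁.subtype X₁.subtype_injective
  · rintro ⟨a, haX⟩ ha
    obtain ⟨l, b, hb, hab⟩ := hgenN a ha
    exact ⟨l, ⟨b, hR₁X hb⟩, hb, Subtype.ext (by simpa using hab)⟩
  · have h1 : A.subgroupOf X₁ ⊓ R₁.subgroupOf X₁ = (A ⊓ R₁).subgroupOf X₁ := (Subgroup.comap_inf _ _ _).symm
    rw [h1, Nat.card_congr (Subgroup.subgroupOfEquivOfLe hAX).toEquiv,
      Nat.card_congr (Subgroup.subgroupOfEquivOfLe (inf_le_left.trans hAX : A ⊓ R₁ ≤ X₁)).toEquiv]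
    exact hcard.le
  · rintro ⟨q, hqX⟩ hq' i hi hin hcomm
    have hπq : π q ∈ M := hQM ▸ ⟨q, hq', rfl⟩
    set a := π (g ^ i)
    have haA : a ∈ Ab := ⟨g ^ i, pow_mem hg i, rfl⟩
    have h1 : ⁅a, π q⁆ ∈ A₁ := by
      rw [← map_commutatorElement]
      exact hcomm
    have h2 : ⁅a, π q⁆ ∈ M := by
      rw [commutatorElement_def]
      exact mul_mem (Coprime.conj_mem_of_le_normalizer hMn haA hπq) (inv_mem hπq)
    have h3 : ⁅a, π q⁆ ∈ Ab ⊓ M := ⟨h1.1, h2⟩
    rw [Subgroup.inf_eq_bot_of_coprime (hcop M hMQ), Subgroup.mem_bot,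
      commutatorElement_eq_one_iff_mul_comm] at h3
    have h4 : π q = 1 := hfpf a haA (fun h => hgi i hi hin h) (π q) hπq h3
    obtain ⟨q₀, hq₀, rfl⟩ := hq'
    have h5 : q₀ ∈ R.subgroupOf P₀ ⊓ Q₀ := ⟨(QuotientGroup.eq_one_iff (q₀ : X)).mp h4, hq₀⟩
    rw [hQ₀.disjoint.eq_bot, Subgroup.mem_bot] at h5
    exact Subtype.ext (by simp [h5])
  · intro Y hY hYc
    rw [← Subgroup.card_map_of_injective X₁.subtype_injective, Nat.card_congr (Subgroup.subgroupOfEquivOfLe hAX).toEquiv]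
    haveI := isMulCommutative_map X₁.subtype hYc
    refine hAmax _ ?_ ⟨fun x hx y hy => setLike_mul_comm hx hy, fun a _ => pow_zero a⟩
    refine ((Subgroup.map_mono hY).trans ?_)
    rw [Subgroup.map_sup]
    exact sup_le ((Subgroup.map_subgroupOf_eq_of_le hR₁X).le.trans (hR₁le.trans hRAT))
      ((Subgroup.map_subgroupOf_eq_of_le hAX).le.trans hAT)

end CfsgLib.ThompsonCount
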